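import Groth.Agent.Lib.WeilExt.Global
import Groth.Agent.Lib.Curve17.Glue
import Groth.Agent.Lib.EGA43Top.OpenCriterion
import Mathlib.AlgebraicGeometry.SpreadingOut
import Mathlib.AlgebraicGeometry.Morphisms.Separated
import Mathlib.AlgebraicGeometry.Noetherian

/-!
Extension of a section over a dense open to a point with domain local ring, from a map on the
local ring.
-/

universe u

open CategoryTheory CategoryTheory.Limits AlgebraicGeometry TopologicalSpace IsLocalRing Topology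

namespace Groth.Agent.SectExtend

theorem isLocallyConstructible_of_isOpen {X : Scheme.{u}} [IsLocallyNoetherian X] {s : Set X}
    (hs : IsOpen s) : IsLocallyConstructible s ∧ IsLocallyConstructible sᶜ := by
  suffices h : ∀ x : X, ∃ V ∈ nhds x, IsOpen V ∧ IsConstructible (Subtype.val ⁻¹' s : Set V) from
    ⟨h, fun x => (h x).imp fun V hV => ⟨hV.1, hV.2.1, hV.2.2.compl⟩⟩
  intro x
  obtain ⟨V, hV, hxV, -⟩ := exists_isAffineOpen_mem_and_subset (X := X) (x := x) (U := ⊤) trivial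
  haveI : IsNoetherianRing Γ(X, V) := IsLocallyNoetherian.component_noetherian ⟨V, hV⟩
  haveI : NoetherianSpace (V : Set X) := (noetherianSpace_of_isAffineOpen V hV)
  refine ⟨V, V.2.mem_nhds hxV, V.2, ?_⟩
  refine IsRetrocompact.isConstructible (hs.preimage continuous_subtype_val) ?_
  exact fun t _ _ => NoetherianSpace.isCompact _

/-- The lift of the generic point of the local ring to an open containing it. -/
theorem exists_lift_gen {X : Scheme.{u}} [IsLocallyNoetherian X] (U : X.Opens) (hU : Dense (U : Set X)) (x : X)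
    [IsDomain (X.presheaf.stalk x)] :
    ∃ τ : Spec (CommRingCat.of (FractionRing (X.presheaf.stalk x))) ⟶ (U : Scheme.{u}),
      τ ≫ U.ι = WeilExt.genι x := by
  have hmem : WeilExt.genOf x ∈ U := (WeilExt.isMaxPt_genOf x).mem_of_dense U.2 hU
  refine ⟨IsOpenImmersion.lift U.ι (WeilExt.genι x) ?_, IsOpenImmersion.lift_fac _ _ _⟩
  rw [Scheme.Opens.range_ι]
  rintro - ⟨z, rfl⟩
  rw [WeilExt.genι_apply]
  exact hmem

/-- A generization of a point with domain local ring lies above the generic point. -/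
theorem genOf_specializes {X : Scheme.{u}} (x : X) [IsDomain (X.presheaf.stalk x)] :
    WeilExt.genOf x ⤳ x := by
  have : WeilExt.genOf x ∈ Set.range (X.fromSpecStalk x).base := ⟨_, rfl⟩
  rwa [Scheme.range_fromSpecStalk] at this

/-- A field valued point over a maximal point is dominant on an integral open subscheme. -/
theorem isDominant_of_isMaxPt {T X : Scheme.{u}} [IsIntegral T] (j : T ⟶ X) [IsOpenImmersion j]
    {K : Type u} [Field K] (c : Spec (CommRingCat.of K) ⟶ T)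
    (h : FlatH4.IsMaxPt (j (c (closedPoint K)))) : IsDominant c := by
  have hgp : c (closedPoint K) = genericPoint T :=
    (j.isOpenEmbedding.injective (h _ ((genericPoint_specializes _).map j.continuous))).symm
  constructor
  intro p
  refine closure_mono (Set.singleton_subset_iff.2 (show c (closedPoint K) ∈ Set.range c from ⟨closedPoint K, rfl⟩))
    (specializes_iff_mem_closure.1 ?_)
  rw [hgp]
  exact genericPoint_specializes p

variable {X Y : Scheme.{u}} [IsLocallyNoetherian X] (q : Y ⟶ X) [LocallyOfFiniteType q]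

/-- A section over a dense open extends to a neighbourhood of `x` once it does so on the local ring
at `x`, provided the values near `x` lie in an open of the target separated over the base. -/
theorem exists_extension (U : X.Opens) (hU : Dense (U : Set X)) (h : (U : Scheme.{u}) ⟶ Y)
    (hh : h ≫ q = U.ι) (x : X) [IsDomain (X.presheaf.stalk x)]
    (φ : Spec (X.presheaf.stalk x) ⟶ Y) (hφ : φ ≫ q = X.fromSpecStalk x)
    (W : Y.Opens) [IsSeparated (W.ι ≫ q)] (hW : φ (closedPoint (X.presheaf.stalk x)) ∈ W)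
    (hgenW : ∀ p : U, U.ι p ⤳ x → h p ∈ W)
    (τ : Spec (CommRingCat.of (FractionRing (X.presheaf.stalk x))) ⟶ (U : Scheme.{u}))
    (hτ : τ ≫ U.ι = WeilExt.genι x)
    (hagree : Spec.map (CommRingCat.ofHom (algebraMap (X.presheaf.stalk x)
      (FractionRing (X.presheaf.stalk x)))) ≫ φ = τ ≫ h) :
    ∃ (U' : X.Opens) (hUU' : U ≤ U') (hxU' : x ∈ U') (h' : (U' : Scheme.{u}) ⟶ Y),
      h' ≫ q = U'.ι ∧ X.homOfLE hUU' ≫ h' = h ∧
        h' ⟨x, hxU'⟩ = φ (closedPoint (X.presheaf.stalk x)) := by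
  obtain ⟨U₁, hxU₁, t, ht, htq⟩ := spread_out_of_isGermInjective' (𝟙 X) q φ (x := x)
    (by rw [hφ, Category.comp_id])
  rw [Category.comp_id] at htq
  have htx : t ⟨x, hxU₁⟩ = φ (closedPoint (X.presheaf.stalk x)) := by
    rw [ht, Scheme.Hom.comp_apply]
    congr 1
    apply U₁.ι.isOpenEmbedding.injective
    rw [← Scheme.Hom.comp_apply, Scheme.Opens.fromSpecStalkOfMem_ι, Scheme.fromSpecStalk_closedPoint]
    rfl
  let C : Set X := U.ι '' (h ⁻¹' (W : Set Y)) ∪ (U : Set X)ᶜ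
  have hC : IsLocallyConstructible C :=
    (isLocallyConstructible_of_isOpen (U.ι.isOpenEmbedding.isOpenMap _ (W.2.preimage h.continuous))).1.union
      (isLocallyConstructible_of_isOpen U.2).2
  have hCx : C ∈ nhds x := EGA43Top.mem_nhds_of_generizations hC fun p hp => by
    by_cases hpU : p ∈ U
    · exact Or.inl ⟨⟨p, hpU⟩, hgenW ⟨p, hpU⟩ hp, rfl⟩
    · exact Or.inr hpU
  obtain ⟨C', hC', hC'o, hxC'⟩ := mem_nhds_iff.1 hCx
  let U₂ : X.Opens := U₁.ι ''ᵁ (t ⁻¹ᵁ W) ⊓ ⟨C', hC'o⟩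
  have hxU₂ : x ∈ U₂ := ⟨⟨⟨x, hxU₁⟩, show t ⟨x, hxU₁⟩ ∈ W from htx ▸ hW, rfl⟩, hxC'⟩
  obtain ⟨U₃, hxU₃, hU₃, hU₃le, hinj⟩ := X.exists_le_and_germ_injective x U₂ hxU₂
  have hU₃₁ : U₃ ≤ U₁ := fun p hp => by
    obtain ⟨⟨a, -, rfl⟩, -⟩ := hU₃le hp
    exact a.2
  haveI : Nonempty (U₃ : Scheme.{u}) := ⟨⟨x, hxU₃⟩⟩
  haveI : IsDomain Γ(X, U₃) := hinj.isDomain _
  haveI : IsIntegral (U₃ : Scheme.{u}) := isIntegral_of_isOpenImmersion hU₃.isoSpec.hom
  have hgen : WeilExt.genOf x ∈ U ⊓ U₃ :=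
    ⟨(WeilExt.isMaxPt_genOf x).mem_of_dense U.2 hU, (genOf_specializes x).mem_open U₃.2 hxU₃⟩
  haveI : Nonempty ((U ⊓ U₃ : X.Opens) : Scheme.{u}) := ⟨⟨_, hgen⟩⟩
  haveI : IsIntegral ((U ⊓ U₃ : X.Opens) : Scheme.{u}) :=
    isIntegral_of_isOpenImmersion (X.homOfLE (inf_le_right : U ⊓ U₃ ≤ U₃))
  let T : Scheme.{u} := ((U ⊓ U₃ : X.Opens) : Scheme.{u})
  let a : T ⟶ Y := X.homOfLE (inf_le_left : U ⊓ U₃ ≤ U) ≫ h
  let b : T ⟶ Y := X.homOfLE (inf_le_right.trans hU₃₁ : U ⊓ U₃ ≤ U₁) ≫ t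
  have ha : Set.range a ⊆ Set.range W.ι := by
    rw [Scheme.Opens.range_ι]
    rintro _ ⟨p, rfl⟩
    obtain ⟨-, hpC⟩ := hU₃le p.2.2
    rcases hC' hpC with ⟨z, hz, hzp⟩ | hpU
    · have : z = X.homOfLE (inf_le_left : U ⊓ U₃ ≤ U) p := by
        apply U.ι.isOpenEmbedding.injective
        rw [← Scheme.Hom.comp_apply, Scheme.homOfLE_ι]
        exact hzp
      show h (X.homOfLE _ p) ∈ (W : Set Y)
      rw [← this]; exact hz
    · exact absurd p.2.1 hpU
  have hb : Set.range b ⊆ Set.range W.ι := by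
    rw [Scheme.Opens.range_ι]
    rintro _ ⟨p, rfl⟩
    obtain ⟨⟨z, hz, hzp⟩, -⟩ := hU₃le p.2.2
    have : z = X.homOfLE (inf_le_right.trans hU₃₁ : U ⊓ U₃ ≤ U₁) p := by
      apply U₁.ι.isOpenEmbedding.injective
      rw [← Scheme.Hom.comp_apply, Scheme.homOfLE_ι]
      exact hzp
    show t (X.homOfLE _ p) ∈ (W : Set Y)
    rw [← this]; exact hz
  let c : Spec (CommRingCat.of (FractionRing (X.presheaf.stalk x))) ⟶ T :=
    IsOpenImmersion.lift (U ⊓ U₃).ι (WeilExt.genι x) (by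
      rw [Scheme.Opens.range_ι]; rintro - ⟨v, rfl⟩
      rw [WeilExt.genι_apply]; exact hgen)
  have hc : c ≫ (U ⊓ U₃).ι = WeilExt.genι x := IsOpenImmersion.lift_fac _ _ _
  haveI : IsDominant c := isDominant_of_isMaxPt (U ⊓ U₃).ι c (by
    rw [← Scheme.Hom.comp_apply, hc, WeilExt.genι_apply]
    exact WeilExt.isMaxPt_genOf x)
  have hab : a = b := by
    have key : IsOpenImmersion.lift W.ι a ha = IsOpenImmersion.lift W.ι b hb := by
      refine ext_of_isDominant_of_isSeparated (W.ι ≫ q) ?_ c ?_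
      · simp only [IsOpenImmersion.lift_fac_assoc, a, b, Category.assoc, hh, htq, Scheme.homOfLE_ι]
      · rw [← cancel_mono W.ι, Category.assoc, Category.assoc, IsOpenImmersion.lift_fac,
          IsOpenImmersion.lift_fac]
        have e1 : c ≫ X.homOfLE (inf_le_left : U ⊓ U₃ ≤ U) = τ := by
          rw [← cancel_mono U.ι, Category.assoc, Scheme.homOfLE_ι, hc, hτ]
        have e2 : c ≫ X.homOfLE (inf_le_right.trans hU₃₁ : U ⊓ U₃ ≤ U₁) =
            Spec.map (CommRingCat.ofHom (algebraMap (X.presheaf.stalk x) (FractionRing (X.presheaf.stalk x)))) ≫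
              U₁.fromSpecStalkOfMem x hxU₁ := by
          rw [← cancel_mono U₁.ι, Category.assoc, Scheme.homOfLE_ι, hc, Category.assoc,
            Scheme.Opens.fromSpecStalkOfMem_ι]
          rfl
        simp only [a, b]
        rw [← Category.assoc, e1, ← Category.assoc, e2, Category.assoc, ← ht, hagree]
    have := congrArg (· ≫ W.ι) key
    simpa only [IsOpenImmersion.lift_fac] using this
  obtain ⟨U', hU'1, hU'2, e, -, he1, he2, hext⟩ := Curve17.exists_glue h (X.homOfLE hU₃₁ ≫ t) (by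
    rw [Scheme.homOfLE_homOfLE_assoc]; exact hab)
  refine ⟨U', hU'1, hU'2 hxU₃, e, ?_, he1, ?_⟩
  · refine hext _ _ ?_ ?_
    · rw [reassoc_of% he1, hh, Scheme.homOfLE_ι]
    · rw [reassoc_of% he2, htq, Scheme.homOfLE_ι, Scheme.homOfLE_ι]
  · rw [← htx]
    have := congrArg (fun ψ : (U₃ : Scheme.{u}) ⟶ Y => ψ ⟨x, hxU₃⟩) he2
    simp only [Scheme.Hom.comp_apply] at this
    convert this using 2 <;> first | rfl | (apply Subtype.ext; simp)

end Groth.Agent.SectExtend
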