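import Mathlib.RingTheory.ZariskisMainTheorem
import Mathlib.RingTheory.QuasiFinite.Basic
import Mathlib.RingTheory.RingHom.QuasiFinite
import Mathlib.RingTheory.TensorProduct.Maps
import Mathlib.RingTheory.RingHom.FiniteType
import Mathlib.RingTheory.TensorProduct.Finite
import Mathlib.RingTheory.IntegralClosure.IntegrallyClosed
import Mathlib.RingTheory.Localization.AtPrime.Basic

/-!
A quasi-finite algebra with a birational map to an integrally closed local domain.
-/

universe u

open IsLocalRing TensorProduct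

namespace Groth.Agent.SectExtend

/-- Zariski's main theorem in the form: a birational quasi-finite point over a normal local ring
is defined over that ring. -/
theorem mem_range_of_quasiFinite {A S R K F R' : Type u} [CommRing A] [CommRing S] [CommRing R]
    [IsLocalRing R] [IsDomain R] [IsIntegrallyClosed R] [Field K] [Algebra R K] [IsFractionRing R K]
    [CommRing R'] [IsLocalRing R'] [CommRing F]
    (ι : A →+* S) (hι : ι.QuasiFinite) (hft : ι.FiniteType) (ε : A →+* R) (κ : S →+* K)
    (hεκ : κ.comp ι = (algebraMap R K).comp ε)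
    (O : Subring K) (hRO : ∀ r, algebraMap R K r ∈ O) (hκO : ∀ s, κ s ∈ O) (σ : O →+* F)
    (jR : R' →+* F) (hjR : Function.Injective jR)
    (aR : R →+* R') [IsLocalHom aR] (hσa : ∀ r, σ ⟨_, hRO r⟩ = jR (aR r))
    (ψ : S →+* R') (hσψ : ∀ s, σ ⟨_, hκO s⟩ = jR (ψ s)) (s : S) :
    κ s ∈ (algebraMap R K).range := by
  algebraize [ι, ε]
  letI : Algebra A K := ((algebraMap R K).comp ε).toAlgebra
  haveI : IsScalarTower A R K := IsScalarTower.of_algebraMap_eq fun _ => rfl
  let κA : S →ₐ[A] K := { κ with commutes' := fun a => RingHom.congr_fun hεκ a }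
  let θ : R ⊗[A] S →ₐ[R] K := Algebra.TensorProduct.lift (Algebra.ofId R K) κA fun _ _ => .all _ _
  have hθ : ∀ r s, θ (r ⊗ₜ s) = algebraMap R K r * κ s := fun r s => by
    simp [θ, κA, Algebra.ofId_apply]
  have hθO : ∀ z, θ z ∈ O := by
    intro z
    induction z using TensorProduct.induction_on with
    | zero => rw [map_zero]; exact O.zero_mem
    | tmul r s => rw [hθ]; exact O.mul_mem (hRO r) (hκO s)
    | add a b ha hb => rw [map_add]; exact O.add_mem ha hb
  let σθ : R ⊗[A] S →+* F := σ.comp (θ.toRingHom.codRestrict O hθO)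
  have hσθ : ∀ z, ∃ w, jR w = σθ z := by
    intro z
    induction z using TensorProduct.induction_on with
    | zero => exact ⟨0, by rw [map_zero, map_zero]⟩
    | tmul r s =>
      refine ⟨aR r * ψ s, ?_⟩
      rw [map_mul, ← hσa, ← hσψ, ← map_mul]
      exact congrArg σ (Subtype.ext (hθ r s).symm)
    | add a b ha hb =>
      obtain ⟨u, hu⟩ := ha
      obtain ⟨v, hv⟩ := hb
      exact ⟨u + v, by rw [map_add, map_add, hu, hv]⟩
  choose w hw using hσθ
  let lam : R ⊗[A] S →+* R' :=
    { toFun := w
      map_one' := hjR (by rw [hw, map_one, map_one])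
      map_mul' := fun a b => hjR (by rw [map_mul, hw, hw, hw, map_mul])
      map_zero' := hjR (by rw [hw, map_zero, map_zero])
      map_add' := fun a b => hjR (by rw [map_add, hw, hw, hw, map_add]) }
  let Q : Ideal (R ⊗[A] S) := (maximalIdeal R').comap lam
  haveI : Q.IsPrime := Ideal.IsPrime.comap _
  haveI : Algebra.QuasiFinite A S := hι
  haveI : Algebra.FiniteType A S := hft
  obtain ⟨r, hrQ, hr, hx⟩ := Algebra.zariskisMainProperty_iff.1
    (Algebra.ZariskisMainProperty.of_finiteType (R := R) Q)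
  have hint : ∀ z, IsIntegral R z → ∃ r₀, algebraMap R K r₀ = θ z := fun z hz =>
    IsIntegrallyClosed.isIntegral_iff.1 (hz.map θ)
  obtain ⟨r₀, hr₀⟩ := hint r hr
  have hu : IsUnit r₀ := by
    apply isUnit_of_map_unit aR
    have : aR r₀ = lam r := hjR <| by
      show jR (aR r₀) = jR (w r)
      rw [hw, ← hσa]
      exact congrArg σ (Subtype.ext hr₀)
    rw [this]
    exact not_not.1 hrQ
  obtain ⟨m, hm⟩ := hx ((1 : R) ⊗ₜ[A] s)
  obtain ⟨c, hc⟩ := hint _ hm
  obtain ⟨v, hv⟩ := (hu.pow m).exists_left_inv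
  refine ⟨v * c, ?_⟩
  have hθs : θ ((1 : R) ⊗ₜ[A] s) = κ s := by rw [hθ, map_one, one_mul]
  rw [map_mul, hc, map_mul, map_pow, hθs, ← hr₀, ← map_pow, ← mul_assoc, ← map_mul, hv, map_one, one_mul]

end Groth.Agent.SectExtend
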